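import Cfsg.Agent.Omega.BTwo.Conj
import Cfsg.Agent.Lib.GoldschmidtFusion

/-!
# The exception `Sp₄(4)` of the closing theorem: no field automorphism in `S` (helper835)

`S₀` a Sylow 2-subgroup of `Sp₄(4)` (order `2⁸`), normal of index 2 in the Sylow 2-subgroup `S` of `G`, `y ∈ S ∖ S₀` an
involution acting as the field automorphism.  If `C_{C(u)}(O₂(C(u))) ≤ O₂(C(u))` for the conjugates `u` of `y`, we get a
contradiction.  No coordinates: see the structures `Side` and `Dat`.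
-/

set_option autoImplicit false

namespace Cfsg.Agent.Omega.SpFour.Core

open Subgroup Cfsg.Agent.Omega.BTwo Cfsg.Agent.Lib.GoldschmidtFusion

variable {G : Type*} [Group G]

/-! ### `O₂` of the centraliser of an involution -/

/-- `R = O₂(C_G(u))` and `C_{C(u)}(R) ≤ R`. -/
structure O2 (u : G) (R : Subgroup G) : Prop where
  com : ∀ r ∈ R, r * u = u * r
  two : IsPGroup 2 R
  nrm : ∀ c, c * u = u * c → ∀ r ∈ R, c * r * c⁻¹ ∈ R
  max : ∀ P : Subgroup G, (∀ r ∈ P, r * u = u * r) → IsPGroup 2 P →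
    (∀ c, c * u = u * c → ∀ r ∈ P, c * r * c⁻¹ ∈ P) → P ≤ R
  cen : ∀ c, c * u = u * c → (∀ r ∈ R, c * r = r * c) → c ∈ R

/-- `n` bounds the orders of the 2-subgroups of `C_G(u)`. -/
def Top (u : G) (n : ℕ) : Prop :=
  ∀ P : Subgroup G, (∀ r ∈ P, r * u = u * r) → IsPGroup 2 P → Nat.card P ≤ n

theorem com_conj {u c : G} (g : G) (h : c * u = u * c) :
    (g * c * g⁻¹) * (g * u * g⁻¹) = (g * u * g⁻¹) * (g * c * g⁻¹) := by
  calc (g * c * g⁻¹) * (g * u * g⁻¹) = g * (c * u) * g⁻¹ := by group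
    _ = g * (u * c) * g⁻¹ := by rw [h]
    _ = _ := by group

theorem com_conj' {u c : G} (g : G) (h : c * (g * u * g⁻¹) = (g * u * g⁻¹) * c) :
    (g⁻¹ * c * g) * u = u * (g⁻¹ * c * g) := by
  calc (g⁻¹ * c * g) * u = g⁻¹ * (c * (g * u * g⁻¹)) * g := by group
    _ = g⁻¹ * ((g * u * g⁻¹) * c) * g := by rw [h]
    _ = _ := by group

theorem Top.conj {u : G} {n : ℕ} (h : Top u n) (g : G) : Top (g * u * g⁻¹) n := by
  intro P hP hP2
  rw [← card_cj g⁻¹ P]
  apply h
  · intro r hr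
    rw [mem_cj, inv_inv] at hr
    have := com_conj' g (hP _ hr)
    have e : g⁻¹ * (g * r * g⁻¹) * g = r := by group
    rwa [e] at this
  · exact hP2.map _

theorem O2.conj {u : G} {R : Subgroup G} (h : O2 u R) (g : G) : O2 (g * u * g⁻¹) (cj g R) where
  com r hr := by
    rw [mem_cj] at hr
    have := com_conj g (h.com _ hr)
    have e : g * (g⁻¹ * r * g) * g⁻¹ = r := by group
    rwa [e] at this
  two := h.two.map _
  nrm c hc r hr := by
    rw [mem_cj] at hr ⊢
    have := h.nrm _ (com_conj' g hc) _ hr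
    have e : g⁻¹ * c * g * (g⁻¹ * r * g) * (g⁻¹ * c * g)⁻¹ = g⁻¹ * (c * r * c⁻¹) * g := by group
    rwa [e] at this
  max P hP hP2 hPn := by
    have h1 : cj g⁻¹ P ≤ R := by
      apply h.max
      · intro r hr
        rw [mem_cj, inv_inv] at hr
        have := com_conj' g (hP _ hr)
        have e : g⁻¹ * (g * r * g⁻¹) * g = r := by group
        rwa [e] at this
      · exact hP2.map _
      · intro c hc r hr
        rw [mem_cj, inv_inv] at hr ⊢
        have := hPn _ (com_conj g hc) _ hr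
        have e : g * c * g⁻¹ * (g * r * g⁻¹) * (g * c * g⁻¹)⁻¹ = g * (c * r * c⁻¹) * g⁻¹ := by group
        rwa [e] at this
    have h2 := cj_mono (g := g) h1
    rwa [cj_cj_inv] at h2
  cen c hc hcr := by
    rw [mem_cj]
    apply h.cen _ (com_conj' g hc)
    intro r hr
    have h1 := hcr _ (conj_mem_cj (g := g) hr)
    calc g⁻¹ * c * g * r = g⁻¹ * (c * (g * r * g⁻¹)) * g := by group
      _ = g⁻¹ * ((g * r * g⁻¹) * c) * g := by rw [h1]
      _ = _ := by group

/-- A 2-subgroup of maximal order of `C_G(u)` contains `O₂(C_G(u))`. -/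
theorem O2.le_of_top [Finite G] {u : G} {R T : Subgroup G} (h : O2 u R) (hT : ∀ t ∈ T, t * u = u * t)
    (hT2 : IsPGroup 2 T) (hn : Top u (Nat.card T)) : R ≤ T := by
  have h1 : T ≤ normalizer (R : Set G) := fun t ht => mem_normalizer_of_conj (h.nrm t (hT t ht))
  have h2 : IsPGroup 2 (T ⊔ R : Subgroup G) := hT2.to_sup_of_normal_right' h.two h1
  have h3 : Nat.card (T ⊔ R : Subgroup G) ≤ Nat.card T := by
    apply hn _ _ h2
    have h4 : T ⊔ R ≤ centralizer ({u} : Set G) := by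
      apply sup_le
      · intro t ht; rw [mem_centralizer_singleton_iff]; exact hT t ht
      · intro t ht; rw [mem_centralizer_singleton_iff]; exact h.com t ht
    intro r hr
    exact mem_centralizer_singleton_iff.1 (h4 hr)
  have h5 : T = T ⊔ R := eq_of_le_of_card_ge le_sup_left h3
  rw [h5]
  exact le_sup_right

/-- An extremal conjugate. -/
theorem exists_top [Finite G] (S : Sylow 2 G) {y : G} (hy : y * y = 1) :
    ∃ g : G, g * y * g⁻¹ ∈ (S : Subgroup G) ∧
      Top (g * y * g⁻¹) (Nat.card ((S : Subgroup G) ⊓ centralizer {g * y * g⁻¹} : Subgroup G)) := by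
  have hy2 : IsPGroup 2 (zpowers y) := by
    rw [IsPGroup.iff_card]
    have h1 : orderOf y ∣ 2 := orderOf_dvd_of_pow_eq_one (by rw [pow_two, hy])
    rcases (Nat.dvd_prime Nat.prime_two).1 h1 with h | h
    · exact ⟨0, by rw [Nat.card_zpowers, h, pow_zero]⟩
    · exact ⟨1, by rw [Nat.card_zpowers, h, pow_one]⟩
  obtain ⟨R, hyR, hRN, hR, hRi⟩ := exists_sylow_in (p := 2) (N := centralizer ({y} : Set G))
    (D := zpowers y) (by
      rw [zpowers_le, mem_centralizer_singleton_iff]) hy2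
  have hR' := hR
  obtain ⟨Q, hQ⟩ := hR'.exists_le_sylow
  obtain ⟨n, hn⟩ := MulAction.exists_smul_eq G Q S
  have hnR : ∀ x ∈ R, n * x * n⁻¹ ∈ (S : Subgroup G) := by
    intro x hx
    rw [← hn, Sylow.coe_subgroup_smul]
    have := Subgroup.smul_mem_pointwise_smul _ (MulAut.conj n) _ (hQ hx)
    simpa using this
  refine ⟨n, hnR y (hyR (mem_zpowers y)), ?_⟩
  intro P hP hP2
  have h1 : cj n⁻¹ P ≤ centralizer ({y} : Set G) := by
    intro r hr
    rw [mem_cj, inv_inv] at hr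
    have := com_conj' n (hP _ hr)
    have e : n⁻¹ * (n * r * n⁻¹) * n = r := by group
    rw [e] at this
    exact mem_centralizer_singleton_iff.2 this
  obtain ⟨m, hm, hmP⟩ := exists_conj_le_in hR hRi h1 (hP2.map _)
  have h2 : Nat.card P ≤ Nat.card R := by
    rw [← card_cj n⁻¹ P, ← card_cj m (cj n⁻¹ P)]
    exact Nat.card_le_card_of_injective (Subgroup.inclusion hmP) (Subgroup.inclusion_injective hmP)
  have h3 : cj n R ≤ (S : Subgroup G) ⊓ centralizer {n * y * n⁻¹} := by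
    apply cj_le_iff.2
    intro x hx
    refine ⟨hnR x hx, mem_centralizer_singleton_iff.2 ?_⟩
    exact com_conj n (mem_centralizer_singleton_iff.1 (hRN hx))
  refine h2.trans ?_
  rw [← card_cj n R]
  exact Nat.card_le_card_of_injective (Subgroup.inclusion h3) (Subgroup.inclusion_injective h3)

/-! ### The hypotheses -/

/-- One of the two sides: `Q` elementary abelian of order 64, `e` an element of `C(y)` acting on `Q/C` without fixed
points. -/
structure Side (S0 D Q C : Subgroup G) (y e : G) : Prop where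
  QS : Q ≤ S0
  DQ : D ≤ Q
  card : Nat.card Q = 64
  ab : ∀ a ∈ Q, ∀ b ∈ Q, a * b = b * a
  sq : ∀ a ∈ Q, a * a = 1
  self : ∀ a ∈ S0, (∀ b ∈ Q, a * b = b * a) → a ∈ Q
  /-- every element of `Q` is conjugate into `D` -/
  fus : ∀ a ∈ Q, ∃ g : G, g * a * g⁻¹ ∈ D
  ey : e * y = y * e
  eQ : ∀ a ∈ Q, e * a * e⁻¹ ∈ Q
  /-- `e` acts fixed-point-freely on `Q/C` -/
  fpf : ∀ v ∈ Q, e * v * e⁻¹ * v⁻¹ ∈ C → v ∈ C
  /-- an element of `C_{S₀}(y) ∖ Q` and its conjugate under `e` do not generate a 2-group -/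
  ntwo : ∀ r ∈ S0, r * y = y * r → r ∉ Q → ∀ P : Subgroup G, IsPGroup 2 P → r ∈ P → e * r * e⁻¹ ∉ P
  /-- `|C_D(y)C/C| ≤ 2` -/
  yfix : ∀ r ∈ D, ∀ r' ∈ D, r * y = y * r → r' * y = y * r' → r ∉ C → r' ∉ C → r' * r⁻¹ ∈ C
  eC : ∀ v ∈ Q, e * v * e⁻¹ ∈ C → v ∈ C

/-- `S₀` = Sylow 2-subgroup of `Sp₄(4)`, `y` the field automorphism, `S = S₀⟨y⟩` Sylow in `G`. -/
structure Dat (S : Sylow 2 G) (S0 D Q₁ Q₂ C₁ C₂ : Subgroup G) (y e₁ e₂ : G) : Prop where
  le : S0 ≤ (S : Subgroup G)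
  nrm : ∀ s ∈ (S : Subgroup G), ∀ a ∈ S0, s * a * s⁻¹ ∈ S0
  idx : ∀ a ∈ (S : Subgroup G), ∀ b ∈ (S : Subgroup G), a ∉ S0 → b ∉ S0 → a * b⁻¹ ∈ S0
  card : Nat.card S0 = 256
  cD : Nat.card D = 16
  DZ : ∀ d ∈ D, ∀ s ∈ S0, d * s = s * d
  S0D : ∀ a ∈ S0, ∀ b ∈ S0, a * b * a⁻¹ * b⁻¹ ∈ D
  sqD : ∀ a ∈ S0, a * a ∈ D
  yD : ∀ d ∈ D, y * d * y⁻¹ ∈ D
  inv : ∀ a ∈ S0, a * a = 1 → a ∈ Q₁ ∨ a ∈ Q₂
  s1 : Side S0 D Q₁ C₁ y e₁
  s2 : Side S0 D Q₂ C₂ y e₂
  QQ : ∀ a ∈ Q₁, a ∈ Q₂ → a ∈ D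
  CC : ∀ a ∈ C₁, a ∈ C₂ → a = 1
  yS : y ∈ (S : Subgroup G)
  yn : y ∉ S0
  yy : y * y = 1
  /-- `|C_{S₀}(y)| ≥ 16` -/
  cy : 16 ≤ Nat.card (S0 ⊓ centralizer {y} : Subgroup G)
  /-- `|C_D(y)| ≥ 4` -/
  cDy : 4 ≤ Nat.card (D ⊓ centralizer {y} : Subgroup G)
  /-- `C_{S₀/D}(y) ≤ [S₀/D, y]` -/
  hM : ∀ m ∈ S0, m * (y * m * y⁻¹) ∈ D → ∃ s ∈ S0, ∃ d ∈ D, m = s * (y * s⁻¹ * y⁻¹) * d
  /-- `C_D(y) ≤ [D, y]` -/
  hD : ∀ d ∈ D, d * y = y * d → ∃ d' ∈ D, d = d' * (y * d'⁻¹ * y⁻¹)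
  /-- `C_{S₀}(y)` is not abelian -/
  nonab : ∃ a ∈ S0, ∃ b ∈ S0, a * y = y * a ∧ b * y = y * b ∧ a * b ≠ b * a

variable {S : Sylow 2 G} {S0 D Q₁ Q₂ C₁ C₂ : Subgroup G} {y e₁ e₂ : G}

theorem Side.mem_C {Q C : Subgroup G} {e : G} (h : Side S0 D Q C y e) {R : Subgroup G} (hR : O2 y R)
    (hRD : ∀ r ∈ R, r ∈ S0 → r ∈ D) {r : G} (hr : r ∈ R) (hrD : r ∈ D) : r ∈ C := by
  by_contra hrC
  have h1 : e * r * e⁻¹ ∈ R := hR.nrm e h.ey r hr
  have h2 : e * r * e⁻¹ ∈ D := hRD _ h1 (h.QS (h.eQ r (h.DQ hrD)))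
  have h3 : e * r * e⁻¹ ∉ C := fun h4 => hrC (h.eC r (h.DQ hrD) h4)
  have h5 := h.yfix r hrD _ h2 (hR.com r hr) (hR.com _ h1) hrC h3
  exact hrC (h.fpf r (h.DQ hrD) h5)

namespace Dat

variable (h : Dat S S0 D Q₁ Q₂ C₁ C₂ y e₁ e₂)

include h

/-- (2a): `O₂(C_G(y)) ∩ S₀ = 1`. -/
theorem inf_eq_bot {R : Subgroup G} (hR : O2 y R) {r : G} (hr : r ∈ R) (hrS : r ∈ S0) : r = 1 := by
  have h1 : ∀ r ∈ R, r ∈ S0 → r ∈ Q₁ := by
    intro r hr hrS
    by_contra hc
    exact h.s1.ntwo r hrS (hR.com r hr) hc R hR.two hr (hR.nrm _ h.s1.ey r hr)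
  have h2 : ∀ r ∈ R, r ∈ S0 → r ∈ Q₂ := by
    intro r hr hrS
    by_contra hc
    exact h.s2.ntwo r hrS (hR.com r hr) hc R hR.two hr (hR.nrm _ h.s2.ey r hr)
  have h3 : ∀ r ∈ R, r ∈ S0 → r ∈ D := fun r hr hrS => h.QQ r (h1 r hr hrS) (h2 r hr hrS)
  exact h.CC r (h.s1.mem_C hR h3 hr (h3 r hr hrS)) (h.s2.mem_C hR h3 hr (h3 r hr hrS))

theorem ynrm {a : G} (ha : a ∈ S0) : y * a * y⁻¹ ∈ S0 := h.nrm y h.yS a ha

theorem yinv : y⁻¹ = y := inv_eq_of_mul_eq_one_right h.yy

/-- All involutions of `S ∖ S₀` are conjugate to `y` under `S₀`. -/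
theorem conj_of_not_mem {t : G} (ht : t ∈ (S : Subgroup G)) (htt : t * t = 1) (htn : t ∉ S0) :
    ∃ a ∈ S0, a * y * a⁻¹ = t := by
  have hDS : D ≤ S0 := h.s1.DQ.trans h.s1.QS
  -- `t = m y`
  have hm : t * y⁻¹ ∈ S0 := h.idx t ht y h.yS htn h.yn
  set m := t * y⁻¹ with hmdef
  have ht1 : t = m * y := by rw [hmdef]; group
  have h1 : m * (y * m * y⁻¹) = 1 := by
    have : m * (y * m * y⁻¹) = (m * y) * (m * y) * (y * y)⁻¹ := by rw [h.yy]; nth_rewrite 1 [h.yinv]; group
    rw [this, ← ht1, htt, h.yy]; group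
  obtain ⟨s, hs, d, hd, e⟩ := h.hM m hm (by rw [h1]; exact D.one_mem)
  -- `t = s y s⁻¹ d'`, and `t' = s⁻¹ t s = d y`-like
  have hdy : y * d * y⁻¹ ∈ D := h.yD d hd
  have h2 : s⁻¹ * t * s = d * y := by
    rw [ht1, e]
    have h3 := h.DZ d hd s hs
    have h4 : y⁻¹ * d = (y⁻¹ * d * y) * y⁻¹ := by group
    calc s⁻¹ * (s * (y * s⁻¹ * y⁻¹) * d * y) * s = y * s⁻¹ * (y⁻¹ * d * y) * s := by group
      _ = y * s⁻¹ * ((y⁻¹ * d * y) * s) := by group
      _ = y * s⁻¹ * (s * (y⁻¹ * d * y)) := by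
          rw [h.DZ (y⁻¹ * d * y) (by rw [h.yinv]; nth_rewrite 2 [← h.yinv]; exact hdy) s hs]
      _ = y * (y⁻¹ * d * y) := by group
      _ = d * y := by group
  have h5 : (d * y) * (d * y) = 1 := by
    rw [← h2]
    calc s⁻¹ * t * s * (s⁻¹ * t * s) = s⁻¹ * (t * t) * s := by group
      _ = 1 := by rw [htt]; group
  have hdd : d * d = 1 := h.s1.sq d (h.s1.DQ hd)
  have h6 : d * y = y * d := by
    have h7 : y * d * y = d⁻¹ := by
      rw [eq_inv_iff_mul_eq_one]
      calc y * d * y * d = d⁻¹ * ((d * y) * (d * y)) * d := by group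
        _ = 1 := by rw [h5]; group
    have h8 : d⁻¹ = d := inv_eq_of_mul_eq_one_right hdd
    rw [h8] at h7
    calc d * y = y * d * y * y := by rw [h7]
      _ = y * d * (y * y) := by group
      _ = y * d := by rw [h.yy, mul_one]
  obtain ⟨d', hd', e'⟩ := h.hD d hd h6
  refine ⟨s * d', S0.mul_mem hs (hDS hd'), ?_⟩
  have h9 : d' * y * d'⁻¹ = d * y := by
    rw [e']
    calc d' * y * d'⁻¹ = d' * (y * d'⁻¹ * y⁻¹) * y := by group
      _ = _ := rfl
  calc s * d' * y * (s * d')⁻¹ = s * (d' * y * d'⁻¹) * s⁻¹ := by group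
    _ = s * (s⁻¹ * t * s) * s⁻¹ := by rw [h9, h2]
    _ = t := by group


theorem y_ne_one : y ≠ 1 := fun e => h.yn (e ▸ S0.one_mem)

/-- `16 |O₂(C_G(y))|` is at most the order of a Sylow 2-subgroup of `C_G(y)`. -/
theorem card_bound [Finite G] {R : Subgroup G} (hR : O2 y R) {n : ℕ} (hn : Top y n) : 16 * Nat.card R ≤ n := by
  set P : Subgroup G := S0 ⊓ centralizer {y} with hP
  have hPy : ∀ p ∈ P, p * y = y * p := fun p hp => mem_centralizer_singleton_iff.1 hp.2
  have hP2 : IsPGroup 2 P := S.isPGroup'.to_le (inf_le_left.trans h.le)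
  have h1 : P ≤ normalizer (R : Set G) := fun t ht => mem_normalizer_of_conj (hR.nrm t (hPy t ht))
  have h2 : IsPGroup 2 (P ⊔ R : Subgroup G) := hP2.to_sup_of_normal_right' hR.two h1
  have h3 : Nat.card (P ⊔ R : Subgroup G) ≤ n := by
    apply hn _ _ h2
    have h4 : P ⊔ R ≤ centralizer ({y} : Set G) := by
      apply sup_le
      · intro t ht; rw [mem_centralizer_singleton_iff]; exact hPy t ht
      · intro t ht; rw [mem_centralizer_singleton_iff]; exact hR.com t ht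
    intro r hr
    exact mem_centralizer_singleton_iff.1 (h4 hr)
  have hd : Disjoint P R := by
    rw [disjoint_iff_inf_le]
    intro x hx
    exact mem_bot.2 (h.inf_eq_bot hR hx.2 hx.1.1)
  have h5 : Nat.card P * Nat.card R ≤ Nat.card (P ⊔ R : Subgroup G) := by
    rw [← Nat.card_prod]
    apply Nat.card_le_card_of_injective
      (fun g : P × R => (⟨(g.1 : G) * g.2, mul_mem ((le_sup_left : P ≤ P ⊔ R) g.1.2)
        ((le_sup_right : R ≤ P ⊔ R) g.2.2)⟩ : (P ⊔ R : Subgroup G)))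
    intro a b hab
    exact Subgroup.mul_injective_of_disjoint hd (congrArg Subtype.val hab)
  exact (Nat.mul_le_mul_right _ h.cy).trans (h5.trans h3)

/-- An extremal conjugate of `y` lies in `S₀`. -/
theorem extremal_mem [Finite G] {R : Subgroup G} (hR : O2 y R) {g : G} (hg : g * y * g⁻¹ ∈ (S : Subgroup G))
    (ht : Top (g * y * g⁻¹) (Nat.card ((S : Subgroup G) ⊓ centralizer {g * y * g⁻¹} : Subgroup G))) :
    g * y * g⁻¹ ∈ S0 := by
  by_contra hn
  obtain ⟨a, ha, e⟩ := h.conj_of_not_mem hg (by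
    calc g * y * g⁻¹ * (g * y * g⁻¹) = g * (y * y) * g⁻¹ := by group
      _ = 1 := by rw [h.yy]; group) hn
  rw [← e] at ht
  have haS := h.le ha
  have h1 : cj a⁻¹ ((S : Subgroup G) ⊓ centralizer {a * y * a⁻¹}) ≤ (S : Subgroup G) ⊓ centralizer {y} := by
    intro x hx
    rw [mem_cj, inv_inv] at hx
    refine ⟨?_, ?_⟩
    · have := mul_mem (mul_mem (inv_mem haS) hx.1) haS
      have e1 : a⁻¹ * (a * x * a⁻¹) * a = x := by group
      rwa [e1] at this
    · have := com_conj' a (mem_centralizer_singleton_iff.1 hx.2)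
      have e1 : a⁻¹ * (a * x * a⁻¹) * a = x := by group
      rw [e1] at this
      exact mem_centralizer_singleton_iff.2 this
  have h2 : Top y (Nat.card ((S : Subgroup G) ⊓ centralizer {y} : Subgroup G)) := by
    have h3 := ht.conj a⁻¹
    have e1 : a⁻¹ * (a * y * a⁻¹) * a⁻¹⁻¹ = y := by group
    rw [e1] at h3
    intro P hP hP2
    refine (h3 P hP hP2).trans ?_
    rw [← card_cj a⁻¹]
    exact Nat.card_le_card_of_injective (Subgroup.inclusion h1) (Subgroup.inclusion_injective h1)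
  have h3 : R ≤ (S : Subgroup G) ⊓ centralizer {y} := by
    apply hR.le_of_top _ _ h2
    · intro t ht; exact mem_centralizer_singleton_iff.1 ht.2
    · exact S.isPGroup'.to_le inf_le_left
  -- `R = {1, y}`
  have hyR : y ∈ R := hR.cen y rfl (fun r hr => (hR.com r hr).symm)
  have h4 : ∀ r ∈ R, r = 1 ∨ r = y := by
    intro r hr
    by_cases hrS : r ∈ S0
    · exact Or.inl (h.inf_eq_bot hR hr hrS)
    · right
      have h5 := h.idx r (h3 hr).1 y h.yS hrS h.yn
      have h6 := h.inf_eq_bot hR (R.mul_mem hr (R.inv_mem hyR)) h5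
      rwa [mul_inv_eq_one] at h6
  obtain ⟨b, hb, c, hc, hby, hcy, hbc⟩ := h.nonab
  have h5 : ∀ b ∈ S0, b * y = y * b → b = 1 := by
    intro b hb hby
    apply h.inf_eq_bot hR _ hb
    apply hR.cen b hby
    intro r hr
    rcases h4 r hr with rfl | rfl
    · rw [mul_one, one_mul]
    · exact hby
  apply hbc
  rw [h5 b hb hby, one_mul, mul_one]

theorem mem_D {u : G} (hu : u ∈ S0) (hc : ∀ s ∈ S0, u * s = s * u) : u ∈ D :=
  h.QQ u (h.s1.self u hu (fun b hb => hc b (h.s1.QS hb))) (h.s2.self u hu (fun b hb => hc b (h.s2.QS hb)))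

theorem card_S : Nat.card (S : Subgroup G) = 512 := by
  have h1 : (S0.subgroupOf (S : Subgroup G)).index = 2 := by
    rw [Subgroup.index_eq_two_iff]
    refine ⟨⟨y, h.yS⟩, ?_⟩
    rintro ⟨b, hb⟩
    rw [mem_subgroupOf, mem_subgroupOf, xor_iff_not_iff']
    change b * y ∉ S0 ↔ b ∈ S0
    constructor
    · intro hbn
      by_contra hb2
      have := h.idx b hb y h.yS hb2 h.yn
      rw [h.yinv] at this
      exact hbn this
    · intro h1 h2
      exact h.yn ((S0.mul_mem_cancel_left h1).1 h2)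
  have h2 := Subgroup.card_mul_index (S0.subgroupOf (S : Subgroup G))
  rw [h1, Nat.card_congr (Subgroup.subgroupOfEquivOfLe h.le).toEquiv, h.card] at h2
  omega

/-- A conjugate of `y` in `D` with a Sylow 2-subgroup `T ≤ S` of its centraliser containing `S₀`. -/
theorem exists_good [Finite G] {R : Subgroup G} (hR : O2 y R) :
    ∃ g : G, g * y * g⁻¹ ∈ D ∧ ∃ T : Subgroup G, S0 ≤ T ∧ T ≤ (S : Subgroup G) ∧
      (∀ t ∈ T, t * (g * y * g⁻¹) = (g * y * g⁻¹) * t) ∧ Top (g * y * g⁻¹) (Nat.card T) := by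
  obtain ⟨g, hg, ht⟩ := exists_top S h.yy
  have hu := h.extremal_mem hR hg ht
  have hSyl : ∀ t ∈ (S : Subgroup G) ⊓ centralizer {g * y * g⁻¹}, t * (g * y * g⁻¹) = (g * y * g⁻¹) * t :=
    fun t ht => mem_centralizer_singleton_iff.1 ht.2
  by_cases hS : ∀ s ∈ (S : Subgroup G), s * (g * y * g⁻¹) = (g * y * g⁻¹) * s
  · refine ⟨g, h.mem_D hu (fun s hs => (hS s (h.le hs)).symm), (S : Subgroup G), h.le, le_rfl, hS, ?_⟩
    intro P hP hP2
    refine (ht P hP hP2).trans ?_
    exact Nat.card_le_card_of_injective (Subgroup.inclusion inf_le_left) (Subgroup.inclusion_injective _)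
  · have hcard : Nat.card ((S : Subgroup G) ⊓ centralizer {g * y * g⁻¹} : Subgroup G) ≤ 256 := by
      by_contra hc
      have h1 : Nat.card ((S : Subgroup G) ⊓ centralizer {g * y * g⁻¹} : Subgroup G) ∣ 512 := by
        rw [← h.card_S]
        exact Subgroup.card_dvd_of_le inf_le_left
      have h2 : Nat.card ((S : Subgroup G) ⊓ centralizer {g * y * g⁻¹} : Subgroup G) = 512 := by
        obtain ⟨k, hk⟩ := h1
        have hk0 : 0 < k := Nat.pos_of_ne_zero (fun e => by rw [e] at hk; omega)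
        have : k < 2 := by
          by_contra hk2
          have : Nat.card ((S : Subgroup G) ⊓ centralizer {g * y * g⁻¹} : Subgroup G) * 2 ≤ 512 := by
            rw [hk]; exact Nat.mul_le_mul_left _ (by omega)
          omega
        have : k = 1 := by omega
        rw [this, mul_one] at hk
        exact hk.symm
      apply hS
      intro s hs
      have h3 : (S : Subgroup G) ⊓ centralizer {g * y * g⁻¹} = (S : Subgroup G) :=
        eq_of_le_of_card_ge inf_le_left (by rw [h2, h.card_S])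
      rw [← h3] at hs
      exact hSyl s hs
    have huu : (g * y * g⁻¹) * (g * y * g⁻¹) = 1 := by
      calc g * y * g⁻¹ * (g * y * g⁻¹) = g * (y * y) * g⁻¹ := by group
        _ = 1 := by rw [h.yy]; group
    have : ∃ l : G, l * (g * y * g⁻¹) * l⁻¹ ∈ D := by
      rcases h.inv _ hu huu with h1 | h1
      · exact h.s1.fus _ h1
      · exact h.s2.fus _ h1
    obtain ⟨l, hl⟩ := this
    have e : l * (g * y * g⁻¹) * l⁻¹ = (l * g) * y * (l * g)⁻¹ := by group
    rw [e] at hl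
    refine ⟨l * g, hl, S0, le_rfl, h.le, fun t ht => (h.DZ _ hl t ht).symm, ?_⟩
    rw [← e, h.card]
    intro P hP hP2
    exact ((ht.conj l) P hP hP2).trans hcard

/-- **The exception `Sp₄(4)`**: no field automorphism in `S`. -/
theorem false_of [Finite G] (hC : ∀ u : G, u * u = 1 → u ≠ 1 → ∃ R : Subgroup G, O2 u R) : False := by
  obtain ⟨R₀, hR₀⟩ := hC y h.yy h.y_ne_one
  obtain ⟨g, hu, T, hST, hTS, hTu, htop⟩ := h.exists_good hR₀
  have hDS : D ≤ S0 := h.s1.DQ.trans h.s1.QS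
  set u := g * y * g⁻¹ with hudef
  set R := cj g R₀ with hRdef
  have hR : O2 u R := hR₀.conj g
  have hT2 : IsPGroup 2 T := S.isPGroup'.to_le hTS
  have hRT : R ≤ T := hR.le_of_top hTu hT2 htop
  have hRS : R ≤ (S : Subgroup G) := hRT.trans hTS
  -- `|R| ≤ 32`
  have hcard : Nat.card R ≤ 32 := by
    have h1 : Top y (Nat.card T) := by
      have := htop.conj g⁻¹
      have e : g⁻¹ * u * g⁻¹⁻¹ = y := by rw [hudef]; group
      rwa [e] at this
    have h2 := h.card_bound hR₀ h1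
    have h3 : Nat.card T ≤ 512 := by
      rw [← h.card_S]
      exact Nat.card_le_card_of_injective (Subgroup.inclusion hTS) (Subgroup.inclusion_injective _)
    rw [hRdef, card_cj]
    omega
  have hS0u : ∀ s ∈ S0, s * u = u * s := fun s hs => hTu s (hST hs)
  have hDu : ∀ d ∈ D, d * u = u * d := fun d hd => hS0u d (hDS hd)
  by_cases hRS0 : R ≤ S0
  · -- (5b)
    have hDR : D ≤ R := fun d hd => hR.cen d (hDu d hd) (fun r hr => h.DZ d hd r (hRS0 hr))
    have hnle : ¬ R ≤ D := by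
      intro hle
      have h1 : S0 ≤ R := fun s hs => hR.cen s (hS0u s hs) (fun r hr => (h.DZ r (hle hr) s hs).symm)
      have := Nat.card_le_card_of_injective (Subgroup.inclusion h1) (Subgroup.inclusion_injective _)
      rw [h.card] at this
      omega
    -- `|R : D| = 2`
    have hidx : (D.subgroupOf R).index = 2 := by
      have h1 := Subgroup.card_mul_index (D.subgroupOf R)
      rw [Nat.card_congr (Subgroup.subgroupOfEquivOfLe hDR).toEquiv, h.cD] at h1
      have h2 : (D.subgroupOf R).index ≠ 1 := by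
        rw [Ne, Subgroup.index_eq_one, subgroupOf_eq_top]
        exact hnle
      have h3 : 0 < Nat.card R := Nat.card_pos
      have h4 : (D.subgroupOf R).index ≠ 0 := by
        intro e; rw [e] at h1; omega
      omega
    have hmul : ∀ a ∈ R, ∀ b ∈ R, a ∉ D → b ∉ D → a⁻¹ * b ∈ D := by
      intro a ha b hb hna hnb
      have := Subgroup.mul_mem_iff_of_index_two hidx (a := (⟨a, ha⟩ : R)⁻¹) (b := ⟨b, hb⟩)
      rw [mem_subgroupOf, mem_subgroupOf, mem_subgroupOf] at this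
      simp only [Subgroup.coe_mul, Subgroup.coe_inv, inv_mem_iff] at this
      tauto
    -- every element of `R` outside `D` has order 4
    have hsq : ∀ a ∈ R, a * a = 1 → a ∈ D := by
      intro a ha haa
      by_contra hna
      have key : ∀ {Q C : Subgroup G} {e : G}, Side S0 D Q C y e → a ∈ Q → False := by
        intro Q C e hs haQ
        have h1 : Q ≤ R := by
          intro q hq
          apply hR.cen q (hS0u q (hs.QS hq))
          intro r hr
          by_cases hrD : r ∈ D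
          · exact hs.ab q hq r (hs.DQ hrD)
          · have h2 := hmul a ha r hr hna hrD
            have h3 : r ∈ Q := by
              have := Q.mul_mem haQ (hs.DQ h2)
              rwa [mul_inv_cancel_left] at this
            exact hs.ab q hq r h3
        have := Nat.card_le_card_of_injective (Subgroup.inclusion h1) (Subgroup.inclusion_injective _)
        rw [hs.card] at this
        omega
      rcases h.inv a (hRS0 ha) haa with h1 | h1
      · exact key h.s1 h1
      · exact key h.s2 h1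
    -- `K = C_G(D)`
    have hDsq : ∀ d ∈ D, d * d = 1 := fun d hd => h.s1.sq d (h.s1.DQ hd)
    set K : Subgroup G := centralizer (D : Set G) with hK
    have hKD : ∀ k ∈ K, ∀ d ∈ D, k * d = d * k := fun k hk d hd => (mem_centralizer_iff.1 hk d hd).symm
    have hKu : ∀ k ∈ K, k * u = u * k := fun k hk => hKD k hk u hu
    have hK2 : ∀ k ∈ K, k * k ∈ R := by
      intro k hk
      apply hR.cen
      · rw [mul_assoc, hKu k hk, ← mul_assoc, hKu k hk, mul_assoc]
      · intro a ha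
        by_cases haD : a ∈ D
        · rw [mul_assoc, hKD k hk a haD, ← mul_assoc, hKD k hk a haD, mul_assoc]
        · have h1 : k * a * k⁻¹ ∈ R := hR.nrm k (hKu k hk) a ha
          have h2 : k * a * k⁻¹ ∉ D := by
            intro h3
            apply haD
            have h4 := hKD k⁻¹ (K.inv_mem hk) _ h3
            have h5 : a = k * a * k⁻¹ := by
              calc a = k⁻¹ * (k * a * k⁻¹) * k := by group
                _ = (k * a * k⁻¹) * k⁻¹ * k := by rw [h4]
                _ = _ := by group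
            rw [h5]; exact h3
          have h3 := hmul a ha _ h1 haD h2
          set d := a⁻¹ * (k * a * k⁻¹) with hd
          have h4 : k * a * k⁻¹ = a * d := by rw [hd, mul_inv_cancel_left]
          have h5 : k * (k * a * k⁻¹) * k⁻¹ = a := by
            rw [h4]
            calc k * (a * d) * k⁻¹ = (k * a * k⁻¹) * (k * d * k⁻¹) := by group
              _ = a * d * (d * k * k⁻¹) := by rw [h4, hKD k hk d h3]
              _ = a * (d * d) := by group
              _ = a := by rw [hDsq d h3, mul_one]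
          calc k * k * a = (k * (k * a * k⁻¹) * k⁻¹) * (k * k) := by group
            _ = a * (k * k) := by rw [h5]
    have hKp : IsPGroup 2 K := by
      rintro ⟨k, hk⟩
      obtain ⟨n, hn⟩ := hR.two ⟨k * k, hK2 k hk⟩
      refine ⟨n + 1, ?_⟩
      have hn' := congrArg Subtype.val hn
      rw [Subgroup.coe_pow, Subgroup.coe_one] at hn'
      apply Subtype.ext
      rw [Subgroup.coe_pow, Subgroup.coe_one, pow_succ', pow_mul, pow_two]
      exact hn'
    have hKR : K ≤ R := by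
      apply hR.max K hKu hKp
      intro c hc k hk
      rw [hK, mem_centralizer_iff]
      intro d hd
      have h1 : c⁻¹ * d * c ∈ D := by
        have hc' : c⁻¹ * u = u * c⁻¹ := by
          rw [inv_mul_eq_iff_eq_mul, ← mul_assoc, hc, mul_inv_cancel_right]
        have h2 := hR.nrm c⁻¹ hc' d (hDR hd)
        rw [inv_inv] at h2
        apply hsq _ h2
        calc c⁻¹ * d * c * (c⁻¹ * d * c) = c⁻¹ * (d * d) * c := by group
          _ = 1 := by rw [hDsq d hd]; group
      have h3 := hKD k hk _ h1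
      calc d * (c * k * c⁻¹) = c * ((c⁻¹ * d * c) * k) * c⁻¹ := by group
        _ = c * (k * (c⁻¹ * d * c)) * c⁻¹ := by rw [h3]
        _ = c * k * c⁻¹ * d := by group
    have h1 : S0 ≤ R := by
      refine le_trans ?_ hKR
      intro s hs
      rw [hK, mem_centralizer_iff]
      intro d hd
      exact h.DZ d hd s hs
    have := Nat.card_le_card_of_injective (Subgroup.inclusion h1) (Subgroup.inclusion_injective _)
    rw [h.card] at this
    omega
  · -- (5c)
    obtain ⟨f, hfR, hfn⟩ := SetLike.not_le_iff_exists.1 hRS0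
    have hfS := hRS hfR
    set N : Subgroup G := R ⊓ S0 with hN
    -- `f = m y`
    have hm : f * y⁻¹ ∈ S0 := h.idx f hfS y h.yS hfn h.yn
    set m := f * y⁻¹ with hmdef
    have hf : f = m * y := by rw [hmdef]; group
    -- commutators with `f`
    have hcomN : ∀ s ∈ S0, s * f * s⁻¹ * f⁻¹ ∈ N := by
      intro s hs
      refine ⟨R.mul_mem (hR.nrm s (hS0u s hs) f hfR) (R.inv_mem hfR), ?_⟩
      have e : s * f * s⁻¹ * f⁻¹ = s * (f * s⁻¹ * f⁻¹) := by group
      rw [e]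
      exact S0.mul_mem hs (h.nrm f hfS _ (S0.inv_mem hs))
    have hnrmN : ∀ s ∈ S0, ∀ n ∈ N, s * n * s⁻¹ ∈ N := fun s hs n hn =>
      ⟨hR.nrm s (hS0u s hs) n hn.1, S0.mul_mem (S0.mul_mem hs hn.2) (S0.inv_mem hs)⟩
    -- `[s,y] ∈ N D`
    have hyN : ∀ s ∈ S0, ∃ n ∈ N, ∃ d ∈ D, s * (y * s⁻¹ * y⁻¹) = n * d := by
      intro s hs
      have h1 : y * s⁻¹ * y⁻¹ ∈ S0 := h.ynrm (S0.inv_mem hs)
      set t := y * s⁻¹ * y⁻¹ with ht
      have h2 := h.S0D m hm _ h1
      set c := m * t * m⁻¹ * t⁻¹ with hc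
      have h3 : s * f * s⁻¹ * f⁻¹ = s * t * c := by
        have h4 : s * f * s⁻¹ * f⁻¹ = s * (m * t * m⁻¹) := by
          rw [hf, ht]; group
        have h5 : m * t * m⁻¹ = c * t := by rw [hc]; group
        rw [h4, h5, h.DZ c h2 t h1]
        exact (mul_assoc s t c).symm
      refine ⟨_, hcomN s hs, c⁻¹, D.inv_mem h2, ?_⟩
      rw [h3]; group
    have hDN : ∀ d ∈ D, d * y = y * d → d ∈ N := by
      intro d hd hdy
      obtain ⟨d', hd', e⟩ := h.hD d hd hdy
      have h1 := hcomN d' (hDS hd')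
      have h2 : d' * f * d'⁻¹ * f⁻¹ = d := by
        have h3 : y * d'⁻¹ * y⁻¹ ∈ D := h.yD _ (D.inv_mem hd')
        rw [e]
        calc d' * f * d'⁻¹ * f⁻¹ = d' * (m * (y * d'⁻¹ * y⁻¹) * m⁻¹) := by rw [hf]; group
          _ = d' * ((y * d'⁻¹ * y⁻¹) * m * m⁻¹) := by rw [h.DZ _ h3 m hm]
          _ = _ := by group
      rwa [h2] at h1
    obtain ⟨a, ha, b, hb, hay, hby, hab⟩ := h.nonab
    have hyc : ∀ a ∈ S0, a * y = y * a → a * (y * a * y⁻¹) ∈ D := by
      intro a ha hay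
      rw [← hay, mul_inv_cancel_right]
      exact h.sqD a ha
    have hNmem : ∀ a ∈ S0, a * y = y * a → ∃ n ∈ N, ∃ d ∈ D, a = n * d := by
      intro a ha hay
      obtain ⟨s, hs, d, hd, e⟩ := h.hM a ha (hyc a ha hay)
      obtain ⟨n, hn, d', hd', e'⟩ := hyN s hs
      exact ⟨n, hn, d' * d, D.mul_mem hd' hd, by rw [e, e', mul_assoc]⟩
    obtain ⟨n, hn, d₁, hd₁, ea⟩ := hNmem a ha hay
    obtain ⟨n', hn', d₂, hd₂, eb⟩ := hNmem b hb hby
    have hnn : n * n' ≠ n' * n := by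
      intro e
      apply hab
      have e1 := h.DZ d₁ hd₁ n' hn'.2
      have e2 := h.DZ d₂ hd₂ n hn.2
      have e3 := h.DZ d₁ hd₁ d₂ (hDS hd₂)
      calc a * b = n * (d₁ * n') * d₂ := by rw [ea, eb]; group
        _ = n * n' * (d₁ * d₂) := by rw [e1]; group
        _ = n' * n * (d₂ * d₁) := by rw [e, e3]
        _ = n' * (n * d₂) * d₁ := by group
        _ = n' * (d₂ * n) * d₁ := by rw [e2]
        _ = b * a := by rw [ea, eb]; group
    have hdouble : ∀ {A B : Subgroup G}, A ≤ B → ∀ {x : G}, x ∈ B → x ∉ A → 2 * Nat.card A ≤ Nat.card B := by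
      intro A B hAB x hxB hxA
      obtain ⟨k, hk⟩ := Subgroup.card_dvd_of_le hAB
      have h1 : 0 < Nat.card B := Nat.card_pos
      have h2 : k ≠ 0 := by rintro rfl; omega
      have h3 : k ≠ 1 := by
        rintro rfl
        rw [mul_one] at hk
        have := eq_of_le_of_card_ge hAB hk.le
        rw [this] at hxA
        exact hxA hxB
      rw [hk, mul_comm]
      exact Nat.mul_le_mul_left _ (by omega)
    have hN16 : 2 * Nat.card N ≤ Nat.card R := hdouble inf_le_left hfR (fun hf' => hfn hf'.2)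
    have hK4 : Nat.card (N ⊓ D : Subgroup G) ≤ 4 := by
      have h1 : 2 * Nat.card (N ⊓ D : Subgroup G) ≤ Nat.card (N ⊓ centralizer {n} : Subgroup G) := by
        refine hdouble ?_ (x := n) ⟨hn, mem_centralizer_singleton_iff.2 rfl⟩ ?_
        · intro x hx
          exact ⟨hx.1, mem_centralizer_singleton_iff.2 (h.DZ x hx.2 n hn.2)⟩
        · intro hx
          exact hnn (h.DZ n hx.2 n' hn'.2)
      have h2 : 2 * Nat.card (N ⊓ centralizer {n} : Subgroup G) ≤ Nat.card N := by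
        refine hdouble inf_le_left hn' ?_
        intro hx
        exact hnn (mem_centralizer_singleton_iff.1 hx.2).symm
      omega
    have hle : D ⊓ centralizer {y} ≤ N ⊓ D := fun x hx =>
      ⟨hDN x hx.1 (mem_centralizer_singleton_iff.1 hx.2), hx.1⟩
    have hKeq : D ⊓ centralizer {y} = N ⊓ D := eq_of_le_of_card_ge hle (hK4.trans h.cDy)
    -- `[a, s]` commutes with `y`
    obtain ⟨s, hs, d, hd, e⟩ := h.hM b hb (hyc b hb hby)
    have hcD := h.S0D a ha s hs
    set c := a * s * a⁻¹ * s⁻¹ with hc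
    have hcN : c ∈ N := by
      have e1 : c = n * (s * n⁻¹ * s⁻¹) := by
        have e2 : d₁ * s = s * d₁ := h.DZ d₁ hd₁ s hs
        calc c = n * (d₁ * s) * d₁⁻¹ * n⁻¹ * s⁻¹ := by rw [hc, ea]; group
          _ = _ := by rw [e2]; group
      rw [e1]
      exact N.mul_mem hn (hnrmN s hs _ (N.inv_mem hn))
    have hcy : c * y = y * c := by
      have : c ∈ D ⊓ centralizer {y} := by rw [hKeq]; exact ⟨hcN, hcD⟩
      exact mem_centralizer_singleton_iff.1 this.2
    apply hab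
    have hya : y * a * y⁻¹ = a := by rw [← hay, mul_inv_cancel_right]
    have e1 : y * s⁻¹ * y⁻¹ = s⁻¹ * b * d⁻¹ := by rw [e]; group
    have e2 : y * s * y⁻¹ = d * b⁻¹ * s := by
      have : y * s * y⁻¹ = (y * s⁻¹ * y⁻¹)⁻¹ := by group
      rw [this, e1]; group
    have e3 : y * c * y⁻¹ = a * b⁻¹ * a⁻¹ * b * c := by
      calc y * c * y⁻¹ = (y * a * y⁻¹) * (y * s * y⁻¹) * (y * a * y⁻¹)⁻¹ * (y * s⁻¹ * y⁻¹) := by
            rw [hc]; group
        _ = a * (d * b⁻¹ * s) * a⁻¹ * (s⁻¹ * b * d⁻¹) := by rw [hya, e1, e2]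
        _ = a * d * (b⁻¹ * (s * a⁻¹ * s⁻¹) * b * d⁻¹) := by group
        _ = a * d * (b⁻¹ * (a⁻¹ * c) * b * d⁻¹) := by
            have : s * a⁻¹ * s⁻¹ = a⁻¹ * c := by rw [hc]; group
            rw [this]
        _ = d * (a * b⁻¹ * a⁻¹ * (c * b)) * d⁻¹ := by rw [← h.DZ d hd a ha]; group
        _ = d * (a * b⁻¹ * a⁻¹ * b * c) * d⁻¹ := by rw [h.DZ c hcD b hb]; group
        _ = (a * b⁻¹ * a⁻¹ * b * c) * d * d⁻¹ := by
            rw [h.DZ d hd]
            exact S0.mul_mem (S0.mul_mem (S0.mul_mem (S0.mul_mem ha (S0.inv_mem hb)) (S0.inv_mem ha)) hb)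
              (hDS hcD)
        _ = _ := by group
    have e4 : y * c * y⁻¹ = c := by rw [← hcy, mul_inv_cancel_right]
    rw [e4] at e3
    have e5 : a * b⁻¹ * a⁻¹ * b = 1 := by
      have := congrArg (fun x => x * c⁻¹) e3
      simp only [mul_inv_cancel, mul_inv_cancel_right] at this
      exact this.symm
    have e6 : a * b⁻¹ = b⁻¹ * a := by
      calc a * b⁻¹ = (a * b⁻¹ * a⁻¹ * b) * (b⁻¹ * a) := by group
        _ = b⁻¹ * a := by rw [e5, one_mul]
    calc a * b = b * (b⁻¹ * a) * b := by group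
      _ = b * (a * b⁻¹) * b := by rw [e6]
      _ = b * a := by group

end Dat

end Cfsg.Agent.Omega.SpFour.Core
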